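import Cfsg.Agent.Lib.Helper10.PComp2
import Cfsg.Agent.Lib.Helper10.PCore
import Cfsg.Agent.Lib.Helper12.SLn

set_option autoImplicit false

namespace Cfsg.Agent.Lib.Helper10.GLComp

open Matrix Matrix.SpecialLinearGroup

theorem hasComponent_of {G : Type*} [Group G] [Finite G] (t : G) (K : Subgroup G)
    (hKC : K ≤ Subgroup.centralizer ({t} : Set G))
    (hKn : ∀ g ∈ Subgroup.centralizer ({t} : Set G), ∀ k ∈ K, g * k * g⁻¹ ∈ K)
    (hqs : Cfsg.IsQuasisimple K) (hinv : ∃ k ∈ K, orderOf k = 2) :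
    Cfsg.HasComponent (↥(Subgroup.centralizer ({t} : Set G)) ⧸
      Cfsg.oddCore ↥(Subgroup.centralizer ({t} : Set G))) := by
  have hK₁n : (K.subgroupOf (Subgroup.centralizer ({t} : Set G))).Normal := ⟨fun k hk g => by
    rw [Subgroup.mem_subgroupOf] at hk ⊢
    exact hKn g g.2 k hk⟩
  refine ⟨(K.subgroupOf (Subgroup.centralizer ({t} : Set G))).map
    (QuotientGroup.mk' (Cfsg.oddCore ↥(Subgroup.centralizer ({t} : Set G)))), ?_, ?_⟩
  · exact (hK₁n.map _ (QuotientGroup.mk'_surjective _)).isSubnormal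
  · have hqs₁ : Cfsg.IsQuasisimple (K.subgroupOf (Subgroup.centralizer ({t} : Set G))) :=
      isQuasisimple_of_mulEquiv (Subgroup.subgroupOfEquivOfLe hKC).symm hqs
    apply isQuasisimple_of_surjective_of_ker_le_center hqs₁
      ((QuotientGroup.mk' (Cfsg.oddCore ↥(Subgroup.centralizer ({t} : Set G)))).subgroupMap _)
      (MonoidHom.subgroupMap_surjective _ _)
    rcases qs_normal_le_center_or_eq_top hqs₁ _ (MonoidHom.normal_ker
      ((QuotientGroup.mk' (Cfsg.oddCore ↥(Subgroup.centralizer ({t} : Set G)))).subgroupMap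
        (K.subgroupOf (Subgroup.centralizer ({t} : Set G))))) with h | h
    · exact h
    · exfalso
      obtain ⟨k, hk, hk2⟩ := hinv
      have hk₁ : (⟨k, hKC hk⟩ : Subgroup.centralizer ({t} : Set G)) ∈
          K.subgroupOf (Subgroup.centralizer ({t} : Set G)) := by
        rw [Subgroup.mem_subgroupOf]; exact hk
      have hmem : (⟨⟨k, hKC hk⟩, hk₁⟩ : K.subgroupOf (Subgroup.centralizer ({t} : Set G))) ∈
          ((QuotientGroup.mk' (Cfsg.oddCore ↥(Subgroup.centralizer ({t} : Set G)))).subgroupMap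
            (K.subgroupOf (Subgroup.centralizer ({t} : Set G)))).ker := by
        rw [h]; exact Subgroup.mem_top _
      rw [MonoidHom.mem_ker] at hmem
      have h3 := congrArg Subtype.val hmem
      have hkO : (⟨k, hKC hk⟩ : Subgroup.centralizer ({t} : Set G)) ∈
          Cfsg.oddCore ↥(Subgroup.centralizer ({t} : Set G)) :=
        (QuotientGroup.eq_one_iff _).1 h3
      have hcop := pPrimeCore_coprime 2 ↥(Subgroup.centralizer ({t} : Set G))
      have ho : orderOf (⟨⟨k, hKC hk⟩, hkO⟩ :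
          Cfsg.oddCore ↥(Subgroup.centralizer ({t} : Set G))) = 2 := by
        rw [Subgroup.orderOf_mk, Subgroup.orderOf_mk]; exact hk2
      have hd : 2 ∣ Nat.card (Cfsg.oddCore ↥(Subgroup.centralizer ({t} : Set G))) := by
        rw [← ho]; exact orderOf_dvd_natCard _
      have := Nat.Coprime.eq_one_of_dvd hcop.symm hd
      omega

theorem sl_qs {F : Type*} [Field F] [Fintype F] (hF : Odd (Fintype.card F)) (m : ℕ) (hm : 2 ≤ m)
    (h23 : ¬ (m = 2 ∧ Fintype.card F = 3)) :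
    Cfsg.IsQuasisimple (Matrix.SpecialLinearGroup (Fin m) F) := by
  classical
  by_cases h3 : 3 ≤ m
  · exact ⟨⟨Cfsg.Agent.Lib.Helper12.sl_commutator_eq_top m h3⟩,
      Cfsg.Agent.Lib.Helper12.psl_isSimpleGroup m h3⟩
  · obtain rfl : m = 2 := by omega
    have hc : 3 < Fintype.card F := by
      have h1 : 1 < Fintype.card F := Fintype.one_lt_card
      have h2 : Fintype.card F ≠ 3 := fun h => h23 ⟨rfl, h⟩
      obtain ⟨k, hk⟩ := hF
      omega
    have hex : ∃ a : F, a ≠ 0 ∧ a ^ 2 ≠ 1 := by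
      by_contra hcon
      push Not at hcon
      have hsub : (Finset.univ : Finset F) ⊆ {0, 1, -1} := by
        intro a _
        by_cases ha : a = 0
        · simp [ha]
        · have := hcon a ha
          rw [sq, mul_self_eq_one_iff] at this
          rcases this with h | h <;> simp [h]
      have := Finset.card_le_card hsub
      have h4 : ({0, 1, -1} : Finset F).card ≤ 3 := Finset.card_le_three
      rw [Finset.card_univ] at this
      omega
    obtain ⟨a, ha, hasq⟩ := hex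
    exact ⟨⟨SL2.commutator_eq_top ha hasq⟩,
      Matrix.ProjectiveSpecialLinearGroup.rank_two_simple' ⟨a, ha, hasq⟩⟩

theorem eq_zero_of_eq_neg {F : Type*} [Field F] (h2 : (2 : F) ≠ 0) {x : F} (h : x = -x) : x = 0 := by
  have h3 : 2 * x = 0 := by linear_combination h
  exact (mul_eq_zero.1 h3).resolve_left h2

section blocks

variable {F : Type*} [Field F] (m : ℕ)

/-- block embedding as a monoid hom -/
def blk : Matrix (Fin m) (Fin m) F →* Matrix (Fin 1 ⊕ Fin m) (Fin 1 ⊕ Fin m) F where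
  toFun A := fromBlocks 1 0 0 A
  map_one' := fromBlocks_one
  map_mul' A B := by simp [fromBlocks_multiply]

def emb : SpecialLinearGroup (Fin m) F →* GL (Fin 1 ⊕ Fin m) F :=
  (Units.map (blk m)).comp SpecialLinearGroup.toGL

theorem emb_coe (A : SpecialLinearGroup (Fin m) F) :
    ((emb m A : GL (Fin 1 ⊕ Fin m) F) : Matrix (Fin 1 ⊕ Fin m) (Fin 1 ⊕ Fin m) F) =
      fromBlocks 1 0 0 (A : Matrix (Fin m) (Fin m) F) := rfl

theorem emb_inj : Function.Injective (emb (F := F) m) := by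
  intro A B h
  have h1 := congrArg (fun g : GL (Fin 1 ⊕ Fin m) F =>
    (g : Matrix (Fin 1 ⊕ Fin m) (Fin 1 ⊕ Fin m) F)) h
  simp only [emb_coe, fromBlocks_inj] at h1
  exact Subtype.ext h1.2.2.2

def tS : GL (Fin 1 ⊕ Fin m) F :=
  ⟨fromBlocks (-1) 0 0 1, fromBlocks (-1) 0 0 1,
    by simp [fromBlocks_multiply, fromBlocks_one], by simp [fromBlocks_multiply, fromBlocks_one]⟩

theorem tS_coe : ((tS m : GL (Fin 1 ⊕ Fin m) F) : Matrix (Fin 1 ⊕ Fin m) (Fin 1 ⊕ Fin m) F) =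
    fromBlocks (-1) 0 0 1 := rfl

theorem block_form (h2 : (2 : F) ≠ 0) (g : Matrix (Fin 1 ⊕ Fin m) (Fin 1 ⊕ Fin m) F)
    (h : g * fromBlocks (-1) 0 0 1 = fromBlocks (-1) 0 0 1 * g) :
    g = fromBlocks g.toBlocks₁₁ 0 0 g.toBlocks₂₂ := by
  have h1 : fromBlocks g.toBlocks₁₁ g.toBlocks₁₂ g.toBlocks₂₁ g.toBlocks₂₂ * fromBlocks (-1) 0 0 1 =
      fromBlocks (-1) 0 0 1 * fromBlocks g.toBlocks₁₁ g.toBlocks₁₂ g.toBlocks₂₁ g.toBlocks₂₂ := by
    rw [fromBlocks_toBlocks]; exact h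
  rw [fromBlocks_multiply, fromBlocks_multiply, fromBlocks_inj] at h1
  obtain ⟨-, hb, hc, -⟩ := h1
  have hb0 : g.toBlocks₁₂ = 0 := by
    ext i j
    have := congrFun (congrFun hb i) j
    simp at this
    exact eq_zero_of_eq_neg h2 this
  have hc0 : g.toBlocks₂₁ = 0 := by
    ext i j
    have := congrFun (congrFun hc i) j
    simp at this
    exact eq_zero_of_eq_neg h2 this.symm
  conv_lhs => rw [← fromBlocks_toBlocks g, hb0, hc0]

theorem mem_cent_iff (g : GL (Fin 1 ⊕ Fin m) F) :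
    g ∈ Subgroup.centralizer ({tS m} : Set (GL (Fin 1 ⊕ Fin m) F)) ↔
      (g : Matrix (Fin 1 ⊕ Fin m) (Fin 1 ⊕ Fin m) F) * fromBlocks (-1) 0 0 1 =
        fromBlocks (-1) 0 0 1 * (g : Matrix (Fin 1 ⊕ Fin m) (Fin 1 ⊕ Fin m) F) := by
  rw [Subgroup.mem_centralizer_singleton_iff]
  constructor
  · intro h
    exact congrArg (fun g : GL (Fin 1 ⊕ Fin m) F =>
      (g : Matrix (Fin 1 ⊕ Fin m) (Fin 1 ⊕ Fin m) F)) h
  · intro h
    exact Units.ext h

theorem tS_order (h2 : (2 : F) ≠ 0) : orderOf (tS (F := F) m) = 2 := by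
  apply orderOf_eq_prime
  · apply Units.ext
    rw [sq]
    show (fromBlocks (-1) 0 0 1 : Matrix (Fin 1 ⊕ Fin m) (Fin 1 ⊕ Fin m) F) * fromBlocks (-1) 0 0 1 = 1
    simp [fromBlocks_multiply, fromBlocks_one]
  · intro h
    have h1 : (fromBlocks (-1) 0 0 1 : Matrix (Fin 1 ⊕ Fin m) (Fin 1 ⊕ Fin m) F) =
        fromBlocks 1 0 0 1 := by
      rw [fromBlocks_one]
      exact congrArg (fun g : GL (Fin 1 ⊕ Fin m) F =>
        (g : Matrix (Fin 1 ⊕ Fin m) (Fin 1 ⊕ Fin m) F)) h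
    rw [fromBlocks_inj] at h1
    have h3 := congrFun (congrFun h1.1 0) 0
    simp at h3
    apply h2
    linear_combination -h3

theorem tS_not_center (h2 : (2 : F) ≠ 0) (hm : 1 ≤ m) :
    tS (F := F) m ∉ Subgroup.center (GL (Fin 1 ⊕ Fin m) F) := by
  intro hc
  have key : ∀ Bm : Matrix (Fin 1) (Fin m) F, Bm = 0 := by
    intro Bm
    have hu : (⟨fromBlocks 1 Bm 0 1, fromBlocks 1 (-Bm) 0 1,
        by simp [fromBlocks_multiply, fromBlocks_one],
        by simp [fromBlocks_multiply, fromBlocks_one]⟩ : GL (Fin 1 ⊕ Fin m) F) ∈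
        Subgroup.centralizer ({tS m} : Set (GL (Fin 1 ⊕ Fin m) F)) := by
      rw [Subgroup.mem_centralizer_singleton_iff]
      exact (Subgroup.mem_center_iff.1 hc _)
    have h3 := block_form m h2 _ ((mem_cent_iff m _).1 hu)
    have h4 : (fromBlocks 1 Bm 0 1 : Matrix (Fin 1 ⊕ Fin m) (Fin 1 ⊕ Fin m) F) =
        fromBlocks (fromBlocks 1 Bm 0 1 : Matrix (Fin 1 ⊕ Fin m) (Fin 1 ⊕ Fin m) F).toBlocks₁₁ 0 0
          (fromBlocks 1 Bm 0 1 : Matrix (Fin 1 ⊕ Fin m) (Fin 1 ⊕ Fin m) F).toBlocks₂₂ := h3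
    rw [fromBlocks_inj] at h4
    exact h4.2.1
  have h5 := congrFun (congrFun (key (Matrix.of (fun _ _ => 1))) 0) ⟨0, hm⟩
  simp at h5

theorem emb_mem_cent (A : SpecialLinearGroup (Fin m) F) :
    emb m A ∈ Subgroup.centralizer ({tS m} : Set (GL (Fin 1 ⊕ Fin m) F)) := by
  rw [mem_cent_iff, emb_coe]
  simp [fromBlocks_multiply]

theorem emb_conj (h2 : (2 : F) ≠ 0) (g : GL (Fin 1 ⊕ Fin m) F)
    (hg : g ∈ Subgroup.centralizer ({tS m} : Set (GL (Fin 1 ⊕ Fin m) F)))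
    (A : SpecialLinearGroup (Fin m) F) : g * emb m A * g⁻¹ ∈ (emb (F := F) m).range := by
  have f1 := block_form m h2 _ ((mem_cent_iff m g).1 hg)
  have f2 := block_form m h2 _ ((mem_cent_iff m g⁻¹).1 (Subgroup.inv_mem _ hg))
  have f3 : (g : Matrix (Fin 1 ⊕ Fin m) (Fin 1 ⊕ Fin m) F) *
      ((g⁻¹ : GL (Fin 1 ⊕ Fin m) F) : Matrix (Fin 1 ⊕ Fin m) (Fin 1 ⊕ Fin m) F) = 1 := by
    rw [← Units.val_mul, mul_inv_cancel]; rfl
  generalize (g : Matrix (Fin 1 ⊕ Fin m) (Fin 1 ⊕ Fin m) F).toBlocks₁₁ = a at f1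
  generalize (g : Matrix (Fin 1 ⊕ Fin m) (Fin 1 ⊕ Fin m) F).toBlocks₂₂ = B at f1
  generalize ((g⁻¹ : GL (Fin 1 ⊕ Fin m) F) :
    Matrix (Fin 1 ⊕ Fin m) (Fin 1 ⊕ Fin m) F).toBlocks₁₁ = a' at f2
  generalize ((g⁻¹ : GL (Fin 1 ⊕ Fin m) F) :
    Matrix (Fin 1 ⊕ Fin m) (Fin 1 ⊕ Fin m) F).toBlocks₂₂ = B' at f2
  rw [f1, f2, fromBlocks_multiply, ← fromBlocks_one, fromBlocks_inj] at f3
  obtain ⟨ha, -, -, hB⟩ := f3
  simp at ha hB
  have hdet : (B * (A : Matrix (Fin m) (Fin m) F) * B').det = 1 := by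
    rw [det_mul, det_mul, A.2, mul_one, ← det_mul, hB, det_one]
  refine ⟨⟨B * (A : Matrix (Fin m) (Fin m) F) * B', hdet⟩, ?_⟩
  apply Units.ext
  show fromBlocks 1 0 0 (B * (A : Matrix (Fin m) (Fin m) F) * B') =
    (g : Matrix (Fin 1 ⊕ Fin m) (Fin 1 ⊕ Fin m) F) *
      fromBlocks 1 0 0 (A : Matrix (Fin m) (Fin m) F) *
      ((g⁻¹ : GL (Fin 1 ⊕ Fin m) F) : Matrix (Fin 1 ⊕ Fin m) (Fin 1 ⊕ Fin m) F)
  rw [f1, f2]
  simp [fromBlocks_multiply, ha]

theorem exists_inv (h2 : (2 : F) ≠ 0) (hm : 2 ≤ m) :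
    ∃ A : SpecialLinearGroup (Fin m) F, orderOf A = 2 := by
  obtain ⟨k, rfl⟩ : ∃ k, m = k + 2 := ⟨m - 2, by omega⟩
  have hdet : (diagonal (Fin.cons (-1) (Fin.cons (-1) (fun _ => 1)) : Fin (k + 2) → F)).det = 1 := by
    rw [det_diagonal]
    simp [Fin.prod_univ_succ]
  obtain ⟨A₀, hA₀⟩ : ∃ A₀ : SpecialLinearGroup (Fin (k + 2)) F,
      (A₀ : Matrix (Fin (k + 2)) (Fin (k + 2)) F) =
        diagonal (Fin.cons (-1) (Fin.cons (-1) (fun _ => 1)) : Fin (k + 2) → F) :=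
    ⟨⟨_, hdet⟩, rfl⟩
  refine ⟨A₀, ?_⟩
  apply orderOf_eq_prime
  · rw [sq]
    apply Subtype.ext
    show (A₀ : Matrix (Fin (k + 2)) (Fin (k + 2)) F) * (A₀ : Matrix (Fin (k + 2)) (Fin (k + 2)) F) = 1
    rw [hA₀, diagonal_mul_diagonal, ← diagonal_one]
    congr 1
    funext i
    refine Fin.cases ?_ (fun i => Fin.cases ?_ (fun j => ?_) i) i <;> simp
  · intro h
    have h1 : (A₀ : Matrix (Fin (k + 2)) (Fin (k + 2)) F) 0 0 =
        (1 : Matrix (Fin (k + 2)) (Fin (k + 2)) F) 0 0 := by rw [h]; rfl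
    rw [hA₀] at h1
    simp at h1
    apply h2
    linear_combination -h1

theorem exists_S (h2 : (2 : F) ≠ 0) (hm : 2 ≤ m) :
    ∃ (t : GL (Fin 1 ⊕ Fin m) F) (K : Subgroup (GL (Fin 1 ⊕ Fin m) F)),
      orderOf t = 2 ∧ t ∉ Subgroup.center (GL (Fin 1 ⊕ Fin m) F) ∧
      K ≤ Subgroup.centralizer ({t} : Set (GL (Fin 1 ⊕ Fin m) F)) ∧
      (∀ g ∈ Subgroup.centralizer ({t} : Set (GL (Fin 1 ⊕ Fin m) F)), ∀ k ∈ K, g * k * g⁻¹ ∈ K) ∧
      Nonempty (SpecialLinearGroup (Fin m) F ≃* K) ∧ ∃ k ∈ K, orderOf k = 2 := by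
  refine ⟨tS m, (emb m).range, tS_order m h2, tS_not_center m h2 (by omega), ?_, ?_,
    ⟨MonoidHom.ofInjective (emb_inj m)⟩, ?_⟩
  · rintro _ ⟨A, rfl⟩
    exact emb_mem_cent m A
  · rintro g hg _ ⟨A, rfl⟩
    exact emb_conj m h2 g hg A
  · obtain ⟨A, hA⟩ := exists_inv (F := F) m h2 hm
    exact ⟨emb m A, ⟨A, rfl⟩, by rw [orderOf_injective (emb m) (emb_inj m) A]; exact hA⟩

end blocks

theorem transport {G H : Type*} [Group G] [Group H] (e : G ≃* H) {S : Type*} [Group S]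
    (h : ∃ (t : G) (K : Subgroup G), orderOf t = 2 ∧ t ∉ Subgroup.center G ∧
      K ≤ Subgroup.centralizer ({t} : Set G) ∧
      (∀ g ∈ Subgroup.centralizer ({t} : Set G), ∀ k ∈ K, g * k * g⁻¹ ∈ K) ∧
      Nonempty (S ≃* K) ∧ ∃ k ∈ K, orderOf k = 2) :
    ∃ (t : H) (K : Subgroup H), orderOf t = 2 ∧ t ∉ Subgroup.center H ∧
      K ≤ Subgroup.centralizer ({t} : Set H) ∧
      (∀ g ∈ Subgroup.centralizer ({t} : Set H), ∀ k ∈ K, g * k * g⁻¹ ∈ K) ∧
      Nonempty (S ≃* K) ∧ ∃ k ∈ K, orderOf k = 2 := by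
  obtain ⟨t, K, h1, h2, h3, h4, ⟨e5⟩, k, hk, hk2⟩ := h
  refine ⟨e t, K.map (e : G →* H), by rw [e.orderOf_eq]; exact h1, ?_, ?_, ?_,
    ⟨e5.trans (e.subgroupMap K)⟩, ⟨e k, ⟨k, hk, rfl⟩, by rw [e.orderOf_eq]; exact hk2⟩⟩
  · intro hc
    apply h2
    rw [Subgroup.mem_center_iff]
    intro g
    apply e.injective
    rw [map_mul, map_mul]
    exact Subgroup.mem_center_iff.1 hc (e g)
  · rintro _ ⟨k, hk, rfl⟩
    rw [Subgroup.mem_centralizer_singleton_iff]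
    show e k * e t = e t * e k
    rw [← map_mul, ← map_mul, Subgroup.mem_centralizer_singleton_iff.1 (h3 hk)]
  · rintro g hg _ ⟨k, hk, rfl⟩
    have hg' : e.symm g ∈ Subgroup.centralizer ({t} : Set G) := by
      rw [Subgroup.mem_centralizer_singleton_iff]
      apply e.injective
      rw [map_mul, map_mul, e.apply_symm_apply]
      exact Subgroup.mem_centralizer_singleton_iff.1 hg
    refine ⟨e.symm g * k * (e.symm g)⁻¹, h4 _ hg' k hk, ?_⟩
    show e (e.symm g * k * (e.symm g)⁻¹) = g * e k * g⁻¹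
    rw [map_mul, map_mul, map_inv, e.apply_symm_apply]

end Cfsg.Agent.Lib.Helper10.GLComp
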