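import Mathlib
import Cfsg.Agent.S0907
import Cfsg.Agent.Lib.Helper7.BlockDefect
import Cfsg.Agent.Lib.Helper2.CharBurn

set_option autoImplicit false
open Cfsg
open scoped ComplexConjugate

namespace Cfsg.Agent.Lib.Helper10

open Module Representation

universe u
variable {G : Type u} [Group G]

/-- a root of unity of order prime to `r` congruent to `1` modulo `M` is `1`. -/
theorem eq_one_of_memLocalIdeal_one_sub {r : ℕ} {M : Ideal AlgInt} (hM : IsPModular r M) {ω : ℂ}
    {m : ℕ} (hm : ω ^ m = 1) (hm0 : m ≠ 0) (hrm : ¬ r ∣ m) (h : MemLocalIdeal M (1 - ω)) : ω = 1 := by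
  haveI := hM.2.1.isPrime
  by_contra hne
  have hint : IsIntegral ℤ ω := ⟨Polynomial.X ^ m - 1,
    Polynomial.monic_X_pow_sub_C 1 hm0, by simp [hm]⟩
  have hR : MemLocalRing M ω := Helper7.memLocalRing_of_isIntegral hint
  have hsum : ∑ i ∈ Finset.range m, ω ^ i = 0 := by
    have h1 := mul_geom_sum ω m
    rw [hm, sub_self] at h1
    rcases mul_eq_zero.1 h1 with h2 | h2
    · exact absurd (sub_eq_zero.1 h2) hne
    · exact h2
  have hpow : ∀ i : ℕ, MemLocalIdeal M (1 - ω ^ i) := by
    intro i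
    have h1 := mul_geom_sum ω i
    have h2 : 1 - ω ^ i = (1 - ω) * ∑ j ∈ Finset.range i, ω ^ j := by
      linear_combination h1
    rw [h2]
    exact Helper7.memLocalIdeal_mul_right h
      (Helper7.memLocalRing_sum _ _ fun j _ => Helper7.memLocalRing_pow hR j)
  have h3 : MemLocalIdeal M (∑ i ∈ Finset.range m, (1 - ω ^ i)) :=
    Helper7.memLocalIdeal_sum _ _ fun i _ => hpow i
  rw [Finset.sum_sub_distrib, hsum, sub_zero, Finset.sum_const, Finset.card_range,
    nsmul_eq_mul, mul_one] at h3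
  exact hrm ((Helper7.memLocalIdeal_natCast_iff hM m).1 h3)

/-- An irreducible representation in the principal `r`-block of degree prime to `p` is trivial on
an `r'`-element whose class has `p`-power size. -/
theorem kazarin_char_step [Finite G] {p r k : ℕ} (hp : p.Prime) (hpr : p ≠ r)
    {M : Ideal AlgInt} (hM : IsPModular r M) (x : G)
    (hx : (Subgroup.centralizer ({x} : Set G)).index = p ^ k) (hrx : ¬ r ∣ orderOf x)
    (n : ℕ) (ρ : Representation ℂ G (Fin n → ℂ)) [hρ : ρ.IsIrreducible]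
    (hB : SameBlock M (fun _ : G => (1 : ℂ)) ρ.character) (hpn : ¬ p ∣ n) : ρ x = 1 := by
  haveI := hM.2.1.isPrime
  have hr : r.Prime := hM.1
  have hloc := hB x
  have hn : finrank ℂ (Fin n → ℂ) = n := Module.finrank_fin_fun ℂ
  have hnpos : 0 < n := by
    have := Helper2.finrank_pos_of_irr ρ
    rwa [hn] at this
  have hnc : (n : ℂ) ≠ 0 := by exact_mod_cast hnpos.ne'
  simp only [centralChar, hx, Representation.char_one, hn] at hloc
  have hpk : ¬ MemLocalIdeal M (((p ^ k : ℕ) : ℂ)) := by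
    rw [Helper7.memLocalIdeal_natCast_iff hM]
    intro hd
    exact hpr ((Nat.prime_dvd_prime_iff_eq hr hp).1 (hr.dvd_of_dvd_pow hd)).symm
  have hcop : Nat.Coprime (finrank ℂ (Fin n → ℂ)) (Subgroup.centralizer ({x} : Set G)).index := by
    rw [hx, hn]
    exact Nat.Coprime.pow_right k ((Nat.Prime.coprime_iff_not_dvd hp).2 hpn).symm
  rcases Helper2.burnside_coprime ρ x hcop with h | h
  · rw [h] at hloc
    simp only [mul_one, div_one, mul_zero, zero_div, sub_zero] at hloc
    exact absurd hloc hpk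
  · obtain ⟨ω, hω⟩ := (Helper2.norm_char_eq_iff ρ x).1 h
    have hchar : ρ.character x = ω * n := by
      rw [Representation.character, hω, map_smul, LinearMap.trace_id, smul_eq_mul, hn]
    have hωm : ω ^ orderOf x = 1 := by
      have h1 : (ρ x) ^ orderOf x = 1 := by rw [← map_pow, pow_orderOf_eq_one, map_one]
      rw [hω] at h1
      have h2 : (ω • (LinearMap.id : (Fin n → ℂ) →ₗ[ℂ] (Fin n → ℂ))) ^ orderOf x
          = ω ^ orderOf x • (1 : Module.End ℂ (Fin n → ℂ)) := by
        have : (LinearMap.id : (Fin n → ℂ) →ₗ[ℂ] (Fin n → ℂ)) = (1 : Module.End ℂ (Fin n → ℂ)) := rfl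
        rw [this, smul_pow, one_pow]
      rw [h2] at h1
      have h3 := congrArg (LinearMap.trace ℂ (Fin n → ℂ)) h1
      rw [map_smul, LinearMap.trace_one, hn, smul_eq_mul] at h3
      exact mul_right_cancel₀ hnc (by rw [h3, one_mul])
    rw [hchar] at hloc
    have h4 : ((p ^ k : ℕ) : ℂ) * 1 / 1 - ((p ^ k : ℕ) : ℂ) * (ω * n) / n
        = ((p ^ k : ℕ) : ℂ) * (1 - ω) := by
      field_simp
    rw [h4] at hloc
    have hint : IsIntegral ℤ ω := ⟨Polynomial.X ^ orderOf x - 1,
      Polynomial.monic_X_pow_sub_C 1 (orderOf_pos x).ne', by simp [hωm]⟩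
    have h5 : MemLocalIdeal M (1 - ω) := by
      by_contra hcon
      exact Helper7.not_memLocalIdeal_mul (Helper7.memLocalRing_natCast _) hpk hcon hloc
    have h6 := eq_one_of_memLocalIdeal_one_sub hM hωm (orderOf_pos x).ne' hrx h5
    rw [hω, h6, one_smul]
    rfl

/-- an irreducible representation with full kernel has the principal character -/
theorem char_eq_one_of_ker_eq_top [Finite G] (n : ℕ) (ρ : Representation ℂ G (Fin n → ℂ))
    [hρ : ρ.IsIrreducible] (hker : MonoidHom.ker ρ = ⊤) : ρ.character = fun _ => 1 := by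
  classical
  cases nonempty_fintype G
  have hall : ∀ x, ρ x = 1 := fun x => by
    have : x ∈ MonoidHom.ker ρ := by rw [hker]; trivial
    exact this
  have hchar : ∀ x, ρ.character x = (n : ℂ) := by
    intro x
    rw [Representation.character, hall, LinearMap.trace_one, Module.finrank_fin_fun]
  have hnorm := Helper2.irr_norm_one (Helper2.isIrrCharacter_character ρ)
  rw [Helper2.classInner_def] at hnorm
  simp only [hchar, map_natCast, Finset.sum_const, Finset.card_univ, nsmul_eq_mul] at hnorm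
  rw [← Nat.card_eq_fintype_card, ← mul_assoc, inv_mul_cancel₀ Helper2.card_ne_zero', one_mul]
    at hnorm
  have hn1 : n * n = 1 := by exact_mod_cast hnorm
  have hn : n = 1 := by nlinarith [Nat.eq_one_of_mul_eq_one_right hn1]
  ext x
  rw [hchar, hn]; simp

/-- **Kazarin's lemma.**  If the class of `x` has `p`-power size and some prime `r ≠ p` divides
`|G|` but not the order of `x`, then `x` lies in a proper normal subgroup. -/
theorem kazarin_proper_normal [Finite G] {p r k : ℕ} (hp : p.Prime) (hr : r.Prime) (hpr : p ≠ r)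
    (hrG : r ∣ Nat.card G) (x : G)
    (hx : (Subgroup.centralizer ({x} : Set G)).index = p ^ k) (hrx : ¬ r ∣ orderOf x) :
    ∃ N : Subgroup G, N.Normal ∧ N ≠ ⊤ ∧ x ∈ N := by
  classical
  by_contra hno
  cases nonempty_fintype G
  have := Helper2.finite_irrCharacter (G := G)
  cases nonempty_fintype (Cfsg.IrrCharacter G)
  haveI : Fact r.Prime := ⟨hr⟩
  obtain ⟨M, hM⟩ := Helper7.exists_isPModular hr
  obtain ⟨w, hw⟩ := exists_prime_orderOf_dvd_card' r hrG
  let triv : Cfsg.IrrCharacter G := ⟨fun _ => 1, Helper2.IsIrrCharacter.one⟩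
  have hsum := Cfsg.Agent.S0907.result r M hM (principalBlock M G) ⟨triv, rfl⟩ 1 w
    (by rw [orderOf_one]; exact fun h => hr.one_lt.ne' (Nat.dvd_one.1 h)) (by rw [hw])
  have hconv : ∑ᶠ χ ∈ principalBlock M G, (χ : G → ℂ) 1 * conj ((χ : G → ℂ) w)
      = ∑ χ : Cfsg.IrrCharacter G, if χ ∈ principalBlock M G then
          (χ : G → ℂ) 1 * conj ((χ : G → ℂ) w) else 0 := by
    rw [finsum_eq_sum_of_fintype]
    apply Finset.sum_congr rfl
    intro χ _
    by_cases h : χ ∈ principalBlock M G <;> simp [h]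
  rw [hconv] at hsum
  have htrivB : triv ∈ principalBlock M G := by
    intro g
    haveI := hM.2.1.isPrime
    simpa [triv] using Helper7.memLocalIdeal_zero (M := M)
  have hβ : ∀ χ : Cfsg.IrrCharacter G, χ ≠ triv →
      ∃ β : ℂ, IsIntegral ℤ β ∧ (if χ ∈ principalBlock M G then
          (χ : G → ℂ) 1 * conj ((χ : G → ℂ) w) else 0) = p * β := by
    intro χ hne
    by_cases hχB : χ ∈ principalBlock M G
    · rw [if_pos hχB]
      obtain ⟨_, n, ρ, hρ, rfl⟩ := χ
      simp only at hne ⊢
      have hn : finrank ℂ (Fin n → ℂ) = n := Module.finrank_fin_fun ℂ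
      by_cases hpn : p ∣ n
      · obtain ⟨d, hd⟩ := hpn
        refine ⟨d * ρ.character w⁻¹,
          IsIntegral.mul (isIntegral_natCast _) (Helper2.isIntegral_char ρ w⁻¹), ?_⟩
        have hd' : (n : ℂ) = p * d := by exact_mod_cast hd
        rw [← Helper7.char_inv_eq_conj (Helper2.isCharacter_character ρ), Representation.char_one,
          hn, hd']
        ring
      · exfalso
        have h1 := kazarin_char_step hp hpr hM x hx hrx n ρ hχB hpn
        apply hno
        refine ⟨MonoidHom.ker ρ, inferInstance, ?_, h1⟩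
        intro htop
        apply hne
        exact Subtype.ext (char_eq_one_of_ker_eq_top n ρ htop)
    · exact ⟨0, isIntegral_zero, by rw [if_neg hχB, mul_zero]⟩
  rw [← Finset.add_sum_erase Finset.univ _ (Finset.mem_univ triv), if_pos htrivB] at hsum
  have hex : ∃ β : ℂ, IsIntegral ℤ β ∧ ∑ χ ∈ Finset.univ.erase triv,
      (if χ ∈ principalBlock M G then
          (χ : G → ℂ) 1 * conj ((χ : G → ℂ) w) else 0) = p * β := by
    have hβ' : ∀ χ : Cfsg.IrrCharacter G, ∃ β : ℂ, IsIntegral ℤ β ∧
        (χ ∈ Finset.univ.erase triv → (if χ ∈ principalBlock M G then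
          (χ : G → ℂ) 1 * conj ((χ : G → ℂ) w) else 0) = p * β) := by
      intro χ
      by_cases h : χ = triv
      · refine ⟨0, isIntegral_zero, fun hmem => ?_⟩
        exact absurd h (Finset.ne_of_mem_erase hmem)
      · obtain ⟨β, h1, h2⟩ := hβ χ h
        exact ⟨β, h1, fun _ => h2⟩
    choose β hβ1 hβ2 using hβ'
    refine ⟨∑ χ ∈ Finset.univ.erase triv, β χ, IsIntegral.sum _ fun χ _ => hβ1 χ, ?_⟩
    rw [Finset.mul_sum]
    exact Finset.sum_congr rfl fun χ hχ => hβ2 χ hχ
  obtain ⟨β, hβint, hβeq⟩ := hex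
  rw [hβeq] at hsum
  have hpc : (p : ℂ) ≠ 0 := by exact_mod_cast hp.ne_zero
  have hsum' : (1 : ℂ) + p * β = 0 := by simpa [triv] using hsum
  have hβv : β = ((-1 / p : ℚ) : ℂ) := by
    push_cast
    field_simp
    linear_combination hsum'
  obtain ⟨m, hm⟩ := Helper2.exists_int_of_isIntegral_of_rat hβint _ hβv
  rw [hm] at hsum'
  have h1' : ((1 + p * m : ℤ) : ℂ) = 0 := by push_cast; simpa using hsum'
  have h2 : (1 : ℤ) + p * m = 0 := by exact_mod_cast h1'
  have h3 : (p : ℤ) ∣ 1 := ⟨-m, by linarith⟩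
  have h4 : p ∣ 1 := by exact_mod_cast h3
  exact hp.one_lt.ne' (Nat.dvd_one.1 h4)

end Cfsg.Agent.Lib.Helper10
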