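import Mathlib
import Cfsg.Agent.Lib.Helper10.Kazarin
import Cfsg.Agent.Lib.Helper9.SupNorm
import Cfsg.Agent.Lib.Helper4.Basic
import Cfsg.Agent.Lib.Helper22.Basic

set_option autoImplicit false
open Cfsg

namespace Cfsg.Agent.Lib.Helper10

universe u

/-- `x` lies in a solvable normal subgroup. -/
def InSolvNormal (G : Type*) [Group G] (x : G) : Prop :=
  ∃ R : Subgroup G, R.Normal ∧ Group.IsSolvable R ∧ x ∈ R

theorem inSolvNormal_sup {G : Type*} [Group G] {R₁ R₂ : Subgroup G} (h₁ : R₁.Normal)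
    (h₂ : R₂.Normal) (s₁ : Group.IsSolvable R₁) (s₂ : Group.IsSolvable R₂) :
    (R₁ ⊔ R₂).Normal ∧ Group.IsSolvable ↥(R₁ ⊔ R₂) := by
  refine ⟨inferInstance, Helper9.sup_solvable ?_ s₁ s₂⟩
  rw [Subgroup.normalizer_eq_top]
  exact le_top

theorem isSolvable_map_of_injective {G H : Type*} [Group G] [Group H] (f : G →* H)
    (hf : Function.Injective f) (K : Subgroup G) (hK : Group.IsSolvable K) :
    Group.IsSolvable ↥(K.map f) :=
  Group.isSolvable_of_surjective (f := (K.equivMapOfInjective f hf).toMonoidHom)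
    (K.equivMapOfInjective f hf).surjective

/-- there is a largest solvable normal subgroup, and it is characteristic. -/
theorem exists_solv_radical (G : Type*) [Group G] [Finite G] :
    ∃ T : Subgroup G, T.Characteristic ∧ Group.IsSolvable T ∧
      ∀ R : Subgroup G, R.Normal → Group.IsSolvable R → R ≤ T := by
  classical
  let 𝒮 : Set (Subgroup G) := {H | H.Normal ∧ Group.IsSolvable H}
  have hfin : 𝒮.Finite := Set.toFinite _
  have hne : 𝒮.Nonempty := ⟨⊥, inferInstance, inferInstance⟩
  obtain ⟨T, hT⟩ := hfin.exists_maximal hne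
  have hgreat : ∀ R : Subgroup G, R.Normal → Group.IsSolvable R → R ≤ T := by
    intro R hR sR
    have h1 : T ⊔ R ∈ 𝒮 := inSolvNormal_sup hT.1.1 hR hT.1.2 sR
    have h2 := hT.2 h1 le_sup_left
    exact le_sup_right.trans h2
  refine ⟨T, ?_, hT.1.2, hgreat⟩
  rw [Subgroup.characteristic_iff_map_le]
  intro φ
  apply hgreat
  · exact hT.1.1.map _ φ.surjective
  · exact isSolvable_map_of_injective φ.toMonoidHom φ.injective T hT.1.2

theorem InSolvNormal.of_normal {G : Type*} [Group G] [Finite G] (N : Subgroup G) [N.Normal]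
    (x : N) (h : InSolvNormal N x) : InSolvNormal G (x : G) := by
  obtain ⟨R, hR, sR, hx⟩ := h
  obtain ⟨T, hT, sT, hgreat⟩ := exists_solv_radical N
  refine ⟨T.map N.subtype, inferInstance,
    isSolvable_map_of_injective N.subtype N.subtype_injective T sT, ?_⟩
  exact ⟨x, hgreat R hR sR hx, rfl⟩

theorem InSolvNormal.of_pow_coprime {G : Type*} [Group G] (x : G) (a b : ℕ) (hab : Nat.Coprime a b)
    (ha : InSolvNormal G (x ^ a)) (hb : InSolvNormal G (x ^ b)) : InSolvNormal G x := by
  obtain ⟨R₁, h₁, s₁, hx₁⟩ := ha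
  obtain ⟨R₂, h₂, s₂, hx₂⟩ := hb
  obtain ⟨h3, h4⟩ := inSolvNormal_sup h₁ h₂ s₁ s₂
  exact ⟨R₁ ⊔ R₂, h3, h4, Helper22.mem_of_pow_mem_of_coprime _ x a b hab
    (Subgroup.mem_sup_left hx₁) (Subgroup.mem_sup_right hx₂)⟩

theorem index_centralizer_pow_dvd {G : Type*} [Group G] (x : G) (n : ℕ) :
    (Subgroup.centralizer ({x ^ n} : Set G)).index ∣ (Subgroup.centralizer ({x} : Set G)).index := by
  apply Subgroup.index_dvd_of_le
  intro y hy
  rw [Subgroup.mem_centralizer_singleton_iff] at hy ⊢
  exact ((Commute.pow_right (show Commute y x from hy) n)).eq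

theorem card_eq_two_prime_pows {n p q : ℕ} (hn : n ≠ 0) (hp : p.Prime)
    (h : ∀ r : ℕ, r.Prime → r ∣ n → r = p ∨ r = q) : ∃ a b : ℕ, n = p ^ a * q ^ b := by
  have h1 : n = p ^ n.factorization p * (n / p ^ n.factorization p) :=
    (Nat.ordProj_mul_ordCompl_eq_self n p).symm
  have h2 : n / p ^ n.factorization p ≠ 0 := (Nat.ordCompl_pos p hn).ne'
  have h3 : ∀ {d : ℕ}, d.Prime → d ∣ n / p ^ n.factorization p → d = q := by
    intro d hd hdvd
    rcases h d hd (hdvd.trans (Nat.ordCompl_dvd n p)) with h4 | h4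
    · exfalso
      rw [h4] at hdvd
      exact Nat.not_dvd_ordCompl hp hn hdvd
    · exact h4
  exact ⟨_, _, by rw [← Nat.eq_prime_pow_of_unique_prime_dvd h2 h3]; exact h1⟩

theorem kazarin_inSolv : ∀ (n : ℕ) (G : Type u) [Group G] [Finite G], Nat.card G = n →
    ∀ (p k : ℕ) (x : G), p.Prime → (Subgroup.centralizer ({x} : Set G)).index = p ^ k →
      InSolvNormal G x := by
  intro n
  induction n using Nat.strong_induction_on with
  | _ n ih =>
  intro G _ _ hcard p k x hp hx
  -- elements of prime power order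
  have hPP : ∀ (q j k' : ℕ) (y : G), q.Prime → orderOf y = q ^ j →
      (Subgroup.centralizer ({y} : Set G)).index = p ^ k' → InSolvNormal G y := by
    intro q j k' y hq hy hyk
    by_cases h : ∃ r : ℕ, r.Prime ∧ r ∣ Nat.card G ∧ r ≠ p ∧ r ≠ q
    · obtain ⟨r, hr, hrG, hrp, hrq⟩ := h
      have hry : ¬ r ∣ orderOf y := by
        rw [hy]
        intro hd
        exact hrq ((Nat.prime_dvd_prime_iff_eq hr hq).1 (hr.dvd_of_dvd_pow hd))
      obtain ⟨N, hN, hNtop, hyN⟩ := kazarin_proper_normal hp hr hrp.symm hrG y hyk hry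
      have hlt : Nat.card N < n := by
        rw [← hcard]
        refine lt_of_le_of_ne (Subgroup.card_le_card_group N) ?_
        intro he
        exact hNtop (Subgroup.eq_top_of_card_eq N he)
      have hdvd : (Subgroup.centralizer ({(⟨y, hyN⟩ : N)} : Set N)).index ∣ p ^ k' := by
        rw [← hyk]
        have h1 : Subgroup.centralizer ({(⟨y, hyN⟩ : N)} : Set N)
            = (Subgroup.centralizer ({y} : Set G)).subgroupOf N := by
          ext z
          simp [Subgroup.mem_centralizer_singleton_iff, Subgroup.mem_subgroupOf, Subtype.ext_iff]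
        rw [h1]
        exact Helper4.relIndex_dvd_index_of_normal_right _ N
      obtain ⟨k'', -, hk''⟩ := (Nat.dvd_prime_pow hp).1 hdvd
      exact InSolvNormal.of_normal N ⟨y, hyN⟩ (ih _ hlt N rfl p k'' ⟨y, hyN⟩ hp hk'')
    · push Not at h
      obtain ⟨a, b, hab⟩ := card_eq_two_prime_pows (n := Nat.card G) (q := q) Nat.card_pos.ne' hp
        (fun r hr hrG => by
          by_cases hrp : r = p
          · exact Or.inl hrp
          · exact Or.inr (h r hr hrG hrp))
      have hsol : Group.IsSolvable G := Helper2.burnside_paqb p q a b hp hq hab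
      exact ⟨⊤, inferInstance, inferInstance, Subgroup.mem_top y⟩
  -- general elements: induction on the order
  have hgen : ∀ (m : ℕ) (y : G) (k' : ℕ), orderOf y = m →
      (Subgroup.centralizer ({y} : Set G)).index = p ^ k' → InSolvNormal G y := by
    intro m
    induction m using Nat.strong_induction_on with
    | _ m ihm =>
    intro y k' hy hyk
    have hm0 : m ≠ 0 := by rw [← hy]; exact (orderOf_pos y).ne'
    by_cases hm1 : m = 1
    · rw [hm1, orderOf_eq_one_iff] at hy
      exact ⟨⊥, inferInstance, inferInstance, by rw [hy]; exact Subgroup.one_mem _⟩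
    have hq : (m.minFac).Prime := Nat.minFac_prime hm1
    set q := m.minFac with hqdef
    have hqm : q ∣ m := Nat.minFac_dvd m
    set v := m.factorization q with hv
    set m' := m / q ^ v with hm'
    have hmul : q ^ v * m' = m := Nat.ordProj_mul_ordCompl_eq_self m q
    have hvpos : 0 < v := hq.factorization_pos_of_dvd hm0 hqm
    have hm'0 : m' ≠ 0 := (Nat.ordCompl_pos q hm0).ne'
    have hcop : Nat.Coprime m' (q ^ v) := by
      apply Nat.Coprime.pow_right
      exact ((Nat.Prime.coprime_iff_not_dvd hq).2 (Nat.not_dvd_ordCompl hq hm0)).symm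
    have hqv1 : 1 < q ^ v := Nat.one_lt_pow hvpos.ne' hq.one_lt
    have ho1 : orderOf (y ^ m') = q ^ v := by
      rw [orderOf_pow_of_dvd hm'0 (by rw [hy, ← hmul]; exact dvd_mul_left _ _), hy, ← hmul]
      exact Nat.mul_div_cancel _ (Nat.pos_of_ne_zero hm'0)
    have ho2 : orderOf (y ^ (q ^ v)) = m' := by
      rw [orderOf_pow_of_dvd (by positivity) (by rw [hy, ← hmul]; exact dvd_mul_right _ _), hy,
        ← hmul]
      exact Nat.mul_div_cancel_left _ (by positivity)
    obtain ⟨k₁, -, hk₁⟩ := (Nat.dvd_prime_pow hp).1 (hyk ▸ index_centralizer_pow_dvd y m')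
    obtain ⟨k₂, -, hk₂⟩ := (Nat.dvd_prime_pow hp).1 (hyk ▸ index_centralizer_pow_dvd y (q ^ v))
    have hlt : m' < m := by
      rw [← hmul]
      exact lt_mul_of_one_lt_left (Nat.pos_of_ne_zero hm'0) hqv1
    exact InSolvNormal.of_pow_coprime y m' (q ^ v) hcop (hPP q v k₁ _ hq ho1 hk₁)
      (ihm m' hlt _ k₂ ho2 hk₂)
  exact hgen _ x k rfl hx

/-- **Kazarin's theorem.** -/
theorem kazarin {G : Type u} [Group G] [Finite G] {p k : ℕ} (hp : p.Prime) (x : G)
    (hx : (Subgroup.centralizer ({x} : Set G)).index = p ^ k) :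
    Group.IsSolvable ↥(Subgroup.normalClosure ({x} : Set G)) := by
  obtain ⟨R, hR, sR, hxR⟩ := kazarin_inSolv _ G rfl p k x hp hx
  have hle : Subgroup.normalClosure ({x} : Set G) ≤ R :=
    Subgroup.normalClosure_le_normal (Set.singleton_subset_iff.2 hxR)
  exact Group.isSolvable_of_isSolvable_injective (f := Subgroup.inclusion hle)
    (Subgroup.inclusion_injective hle)

end Cfsg.Agent.Lib.Helper10
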