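import Mathlib
import Cfsg.Agent.Lib.Helper10.Kazarin2
import Cfsg.Agent.Lib.Helper10.Fitting
import Cfsg.Agent.Lib.Helper1.Fitting
import Cfsg.Agent.Lib.Helper17.QuotP

set_option autoImplicit false
open Cfsg

namespace Cfsg.Agent.Lib.Helper10

universe u

theorem fitting_le_centralizer_of_index_pow {H : Type*} [Group H] [Finite H] {p k : ℕ}
    (hp : p.Prime) (hO : pCore p H = ⊥) (x : H)
    (hx : (Subgroup.centralizer ({x} : Set H)).index = p ^ k) :
    fittingSubgroup H ≤ Subgroup.centralizer ({x} : Set H) := by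
  rw [Helper1.fitting_eq_iSup_pCore]
  apply iSup_le
  intro q
  by_cases hqp : (q : ℕ) = p
  · rw [hqp, hO]; exact bot_le
  · haveI : Fact (q : ℕ).Prime := ⟨q.2⟩
    have hnd : ¬ (q : ℕ) ∣ (Subgroup.centralizer ({x} : Set H)).index := by
      rw [hx]
      intro hd
      exact hqp ((Nat.prime_dvd_prime_iff_eq q.2 hp).1 (q.2.dvd_of_dvd_pow hd))
    obtain ⟨S, -, hS⟩ := Helper22.exists_sylow_le_of_not_dvd_index
      (Subgroup.centralizer ({x} : Set H)) hnd ⊥ IsPGroup.of_bot bot_le
    rw [Helper1.pCore_eq_iInf_sylow]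
    exact (iInf_le _ S).trans hS

/-- If `O_p(H) = 1` and the class of `x` has `p`-power size then the normal closure of `x` is
abelian. -/
theorem commute_of_mem_normalClosure {H : Type u} [Group H] [Finite H] {p k : ℕ}
    (hp : p.Prime) (hO : pCore p H = ⊥) (x : H)
    (hx : (Subgroup.centralizer ({x} : Set H)).index = p ^ k) (y z : H)
    (hy : y ∈ Subgroup.normalClosure ({x} : Set H)) (hz : z ∈ Subgroup.normalClosure ({x} : Set H)) :
    y * z = z * y := by
  set N := Subgroup.normalClosure ({x} : Set H) with hN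
  haveI : (fittingSubgroup H).Normal := fittingSubgroup_normal H
  have hsol : Group.IsSolvable N := kazarin hp x hx
  have hF := fitting_le_centralizer_of_index_pow hp hO x hx
  have hxC : x ∈ Subgroup.centralizer (fittingSubgroup H : Set H) := by
    rw [Subgroup.mem_centralizer_iff]
    intro f hf
    have := hF hf
    rw [Subgroup.mem_centralizer_singleton_iff] at this
    exact this
  have hNC : N ≤ Subgroup.centralizer (fittingSubgroup H : Set H) :=
    Subgroup.normalClosure_le_normal (Set.singleton_subset_iff.2 hxC)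
  have hmap := map_fittingSubgroup_le_of_normal N inferInstance
  have htop : ∀ n : N, n ∈ fittingSubgroup N := by
    intro n
    apply Helper1.centralizer_fitting_le
    rw [Subgroup.mem_centralizer_iff]
    intro f hf
    have h1 : (f : H) ∈ fittingSubgroup H := hmap ⟨f, hf, rfl⟩
    have h2 := hNC n.2
    rw [Subgroup.mem_centralizer_iff] at h2
    exact Subtype.ext (h2 _ h1)
  have h1 : z ∈ fittingSubgroup H := hmap ⟨⟨z, hz⟩, htop _, rfl⟩
  have h2 := hNC hy
  rw [Subgroup.mem_centralizer_iff] at h2
  exact (h2 z h1).symm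

theorem pCore_quotient_pCore_eq_bot (p : ℕ) (G : Type*) [Group G]
    [(pCore p G).Normal] : pCore p (G ⧸ pCore p G) = ⊥ := by
  have h := Helper17.comap_pCore_quotient (p := p) (pCore p G) (Helper1.pCore_isPGroup p)
  have h2 : (⊥ : Subgroup (G ⧸ pCore p G)).comap (QuotientGroup.mk' (pCore p G)) = pCore p G := by
    exact QuotientGroup.ker_mk' (pCore p G)
  exact Subgroup.comap_injective (QuotientGroup.mk'_surjective (pCore p G)) (h.trans h2.symm)

/-- commutators of conjugates of an element of `p`-power index lie in `O_p(G)`. -/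
theorem commutator_conj_mem_pCore {G : Type u} [Group G] [Finite G] {p k : ℕ} (hp : p.Prime)
    (x : G) (hx : (Subgroup.centralizer ({x} : Set G)).index = p ^ k) (y z : G)
    (hy : y ∈ Subgroup.normalClosure ({x} : Set G)) (hz : z ∈ Subgroup.normalClosure ({x} : Set G)) :
    y * z * y⁻¹ * z⁻¹ ∈ pCore p G := by
  haveI : (pCore p G).Normal := Helper1.pCore_normal p
  set π := QuotientGroup.mk' (pCore p G) with hπ
  have hπs : Function.Surjective π := QuotientGroup.mk'_surjective _
  have hdvd : (Subgroup.centralizer ({π x} : Set (G ⧸ pCore p G))).index ∣ p ^ k := by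
    rw [← hx]
    have h1 : (Subgroup.centralizer ({x} : Set G)).map π
        ≤ Subgroup.centralizer ({π x} : Set (G ⧸ pCore p G)) := by
      rintro _ ⟨y, hy, rfl⟩
      rw [SetLike.mem_coe, Subgroup.mem_centralizer_singleton_iff] at hy
      rw [Subgroup.mem_centralizer_singleton_iff, ← map_mul, ← map_mul, hy]
    exact (Subgroup.index_dvd_of_le h1).trans (Subgroup.index_map_dvd _ hπs)
  obtain ⟨k', -, hk'⟩ := (Nat.dvd_prime_pow hp).1 hdvd
  have hmapN : ∀ w ∈ Subgroup.normalClosure ({x} : Set G),
      π w ∈ Subgroup.normalClosure ({π x} : Set (G ⧸ pCore p G)) := by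
    intro w hw
    have h1 : Subgroup.normalClosure ({x} : Set G)
        ≤ (Subgroup.normalClosure ({π x} : Set (G ⧸ pCore p G))).comap π := by
      apply Subgroup.normalClosure_le_normal
      rw [Set.singleton_subset_iff]
      exact Subgroup.subset_normalClosure (Set.mem_singleton _)
    exact h1 hw
  have hcomm := commute_of_mem_normalClosure hp (pCore_quotient_pCore_eq_bot p G) (π x) hk'
    (π y) (π z) (hmapN y hy) (hmapN z hz)
  rw [← QuotientGroup.ker_mk' (pCore p G), MonoidHom.mem_ker]
  change π (y * z * y⁻¹ * z⁻¹) = 1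
  rw [map_mul, map_mul, map_mul, map_inv, map_inv, hcomm]
  group

end Cfsg.Agent.Lib.Helper10
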