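import Cfsg.Agent.Lib.Helper10.CharP3
import Cfsg.Agent.Lib.Helper10.ExtLayer
import Cfsg.Prelude.Def_LocalStructure

set_option autoImplicit false

namespace Cfsg.Agent.Lib.Helper10

open Subgroup

variable {G : Type*} [Group G]

theorem sylow_exists_conj [Finite G] {p : ℕ} [Fact p.Prime] (S T : Sylow p G) :
    ∃ g : G, ∀ x : G, x ∈ T ↔ g⁻¹ * x * g ∈ S := by
  obtain ⟨g, rfl⟩ := MulAction.exists_smul_eq G S T
  refine ⟨g, fun x => ?_⟩
  exact mem_map_conj_iff (S : Subgroup G) g x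

theorem charPT_centralizer_of_parabolic [Finite G] {p : ℕ} [Fact p.Prime]
    (hG : Cfsg.IsOfParabolicCharacteristic p G) (S : Sylow p G) {z : G} (hz1 : z ≠ 1)
    (hzS : z ∈ S) (hzc : z ∈ centralizer ((S : Subgroup G) : Set G)) :
    CharPT p ↥(centralizer ({z} : Set G)) := by
  have hzp : IsPGroup p (zpowers z) := S.2.to_le (zpowers_le.mpr hzS)
  have hS : (S : Subgroup G) ≤ normalizer ((zpowers z : Subgroup G) : Set G) :=
    (le_centralizer_iff.mp (zpowers_le.mpr hzc)).trans (centralizer_le_normalizer _)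
  have h1 := hG (zpowers z) hzp (zpowers_ne_bot.mpr hz1) ⟨S, hS⟩
  have h2 := charPT_centralizer_of_normalizer (charPT_iff_centralizer_le.mpr h1)
  rwa [centralizer_zpowers_eq] at h2

theorem omegaOne_le (p : ℕ) (H : Subgroup G) : Cfsg.omegaOne p H ≤ H := by
  unfold Cfsg.omegaOne
  rw [closure_le]
  exact fun x hx => hx.1

theorem mem_omegaOne {p : ℕ} {H : Subgroup G} {x : G} (h1 : x ∈ H) (h2 : x ^ p = 1) :
    x ∈ Cfsg.omegaOne p H := subset_closure ⟨h1, h2⟩

theorem conj_ne_one {g z : G} (h : z ≠ 1) : g⁻¹ * z * g ≠ 1 := by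
  intro h1
  apply h
  have : z = g * (g⁻¹ * z * g) * g⁻¹ := by group
  rw [this, h1]; group

/-- If `C_G(z)` has characteristic `p` for the elements `z` of order `p` of `Z(S)`, then every
`p`-local containing a Sylow `p`-subgroup has characteristic `p`. -/
theorem charPT_normalizer_of_parabolic_local [Finite G] {p : ℕ} [Fact p.Prime] (S : Sylow p G)
    (h : ∀ z : G, orderOf z = p → z ∈ S → z ∈ centralizer ((S : Subgroup G) : Set G) →
      CharPT p ↥(centralizer ({z} : Set G)))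
    {R : Subgroup G} (hR : IsPGroup p R) (hR1 : R ≠ ⊥) (T : Sylow p G)
    (hT : (T : Subgroup G) ≤ normalizer (R : Set G)) : CharPT p ↥(normalizer (R : Set G)) := by
  have hRT := le_sylow_of_le_normalizer hR T hT
  obtain ⟨z', hz'R, hz'o, hz'c⟩ := exists_mem_center_of_le_normalizer T.2 hR1 hRT hT
  obtain ⟨g, hg⟩ := sylow_exists_conj S T
  have h1 : g⁻¹ * z' * g ∈ S := (hg z').mp (hRT hz'R)
  have h2 : g⁻¹ * z' * g ∈ centralizer ((S : Subgroup G) : Set G) := by
    rw [mem_centralizer_iff]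
    intro s hs
    have hs' : g * s * g⁻¹ ∈ T := by
      rw [hg]
      have : g⁻¹ * (g * s * g⁻¹) * g = s := by group
      rw [this]; exact hs
    have h3 := hz'c _ hs'
    calc s * (g⁻¹ * z' * g) = g⁻¹ * ((g * s * g⁻¹) * z') * g := by group
      _ = g⁻¹ * (z' * (g * s * g⁻¹)) * g := by rw [h3]
      _ = g⁻¹ * z' * g * s := by group
  have h3 : orderOf (g⁻¹ * z' * g) = p := by
    have := orderOf_conj_eq g⁻¹ z'
    rw [inv_inv] at this
    rw [this, hz'o]
  have h4 := charPT_centralizer_conj g (h _ h3 h1 h2)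
  have h5 : g * (g⁻¹ * z' * g) * g⁻¹ = z' := by group
  rw [h5] at h4
  exact charPT_normalizer_of_mem hR hz'R h4

theorem centralizer_singleton_subgroupOf (H : Subgroup G) (z : H) :
    centralizer ({z} : Set H) = (centralizer ({(z : G)} : Set G)).subgroupOf H := by
  ext x
  rw [mem_subgroupOf, mem_centralizer_singleton_iff, mem_centralizer_singleton_iff]
  constructor
  · intro h; exact congrArg Subtype.val h
  · intro h; exact Subtype.ext h

theorem parabolic_of_subnormal [Finite G] {p : ℕ} [Fact p.Prime]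
    (hG : Cfsg.IsOfParabolicCharacteristic p G) (S : Sylow p G) (G₁ : Subgroup G)
    (hsn : G₁.IsSubnormal)
    (hle : ∀ z : G, z ∈ ((S : Subgroup G) ⊓ G₁) ⊓
        centralizer (((S : Subgroup G) ⊓ G₁ : Subgroup G) : Set G) → orderOf z = p →
      z ∈ (S : Subgroup G) ⊓ centralizer ((S : Subgroup G) : Set G)) :
    Cfsg.IsOfParabolicCharacteristic p ↥G₁ := by
  intro R hR hR1 ⟨T, hT⟩
  rw [← charPT_iff_centralizer_le]
  have hidx : ¬ p ∣ ((S : Subgroup G).subgroupOf G₁).index := fun hd =>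
    S.not_dvd_index (hd.trans (relIndex_dvd_index_of_isSubnormal _ hsn))
  let S₁ : Sylow p ↥G₁ := (S.2.comap_subtype : IsPGroup p ((S : Subgroup G).subgroupOf G₁)).toSylow hidx
  apply charPT_normalizer_of_parabolic_local S₁ _ hR hR1 T hT
  intro z hzo hzS hzc
  have hzS' : (z : G) ∈ S := hzS
  have h1 : (z : G) ∈ ((S : Subgroup G) ⊓ G₁) ⊓
      centralizer (((S : Subgroup G) ⊓ G₁ : Subgroup G) : Set G) := by
    refine mem_inf.mpr ⟨mem_inf.mpr ⟨hzS', z.2⟩, ?_⟩
    rw [mem_centralizer_iff]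
    rintro s ⟨hs1, hs2⟩
    have := mem_centralizer_iff.mp hzc ⟨s, hs2⟩ hs1
    exact congrArg Subtype.val this
  have hzo' : orderOf (z : G) = p := by rw [Subgroup.orderOf_coe, hzo]
  have h2 := hle _ h1 hzo'
  have hz1 : (z : G) ≠ 1 := by
    intro h
    rw [h, orderOf_one] at hzo'
    exact (Fact.out : p.Prime).one_lt.ne hzo'
  have h3 := charPT_centralizer_of_parabolic hG S hz1 h2.1 h2.2
  have h4 := charPT_of_isSubnormal h3 (G₁.subgroupOf _) hsn.subgroupOf
  rw [centralizer_singleton_subgroupOf]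
  exact charPT_of_mulEquiv (subgroupOfSwap _ _) h4

end Cfsg.Agent.Lib.Helper10
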