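import Mathlib
import Cfsg.Agent.Lib.Helper1.RegTools
import Cfsg.Agent.Lib.Helper25.PRes1
import Cfsg.Agent.S0867

/-! Galois-fixed characters of `p'`-degree in the principal block and `O^p(G)`. -/

set_option autoImplicit false
set_option linter.style.haveILetI false

namespace Cfsg.Agent.Lib.Helper10.SigmaB0

open Cfsg Cfsg.Agent.Lib.Helper7 Cfsg.Agent.Lib.Helper24 Cfsg.Agent.Lib.Helper25
  Cfsg.Agent.Lib.Helper1
open scoped ComplexConjugate

universe u
variable {G : Type u} [Group G]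

/-- determinant of a Galois conjugate -/
theorem detChar_pow [Finite G] {χ : G → ℂ} (hχ : IsCharacter G χ) {k : ℕ}
    (hk : IsCharacter G (fun g => χ (g ^ k))) (g : G) :
    detChar (fun g => χ (g ^ k)) g = detChar χ (g ^ k) := by
  have hcomm : ∀ x y : Subgroup.zpowers g, Commute x y := by
    rintro ⟨_, i, rfl⟩ ⟨_, j, rfl⟩
    apply Subtype.ext
    show g ^ i * g ^ j = g ^ j * g ^ i
    rw [← zpow_add, ← zpow_add, add_comm]
  let pw : Subgroup.zpowers g →* Subgroup.zpowers g :=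
    { toFun := fun x => x ^ k
      map_one' := one_pow k
      map_mul' := fun x y => (hcomm x y).mul_pow k }
  have h1 := detChar_comp (Subgroup.zpowers g).subtype hk
  have h2 := detChar_comp ((Subgroup.zpowers g).subtype.comp pw) hχ
  have h3 : (fun g => χ (g ^ k)) ∘ (Subgroup.zpowers g).subtype
      = χ ∘ ((Subgroup.zpowers g).subtype.comp pw) := by
    funext x
    simp [pw]
  rw [h3, h2] at h1
  have h4 := congrFun h1 ⟨g, Subgroup.mem_zpowers g⟩
  simpa [pw] using h4.symm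

theorem detOrder_pow_dvd [Finite G] {χ : G → ℂ} (hχ : IsCharacter G χ) {k : ℕ}
    (hk : IsCharacter G (fun g => χ (g ^ k))) :
    detOrder (fun g => χ (g ^ k)) ∣ detOrder χ := by
  unfold detOrder
  apply orderOf_dvd_of_pow_eq_one
  have h1 : detChar χ ^ orderOf (detChar χ) = 1 := pow_orderOf_eq_one _
  funext g
  rw [Pi.pow_apply, detChar_pow hχ hk, Pi.one_apply]
  have := congrFun h1 (g ^ k)
  simpa using this

/-- the canonical extension of a Galois-fixed invariant character is Galois-fixed -/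
theorem exists_fixed_extension [Finite G] {p : ℕ} (hp : p.Prime) (N : Subgroup G) [hN : N.Normal]
    {j : ℕ} (hidx : N.index = p ^ j) (θ : IrrCharacter N)
    (hinv : ∀ (g : G) (n : N),
      (θ : N → ℂ) ⟨g * n * g⁻¹, hN.conj_mem (n : G) n.2 g⟩ = (θ : N → ℂ) n)
    (hdeg : ¬ p ∣ charDegree (θ : N → ℂ)) (hdet : (detOrder (θ : N → ℂ)).Coprime p)
    {k : ℕ} (hk : Nat.Coprime k (Nat.card G))
    (hfix : ∀ n : N, (θ : N → ℂ) (n ^ k) = (θ : N → ℂ) n) :
    ∃ χ : IrrCharacter G, (∀ n : N, (χ : G → ℂ) n = (θ : N → ℂ) n) ∧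
      (∀ g : G, (χ : G → ℂ) (g ^ k) = (χ : G → ℂ) g) ∧ (detOrder (χ : G → ℂ)).Coprime p := by
  obtain ⟨d, hd0, hd⟩ := irr_apply_one θ.2
  rw [charDegree_eq hd] at hdeg
  have hcop : Nat.Coprime N.index (detOrder (θ : N → ℂ) * d) := by
    rw [hidx]
    apply Nat.Coprime.pow_left
    exact Nat.Coprime.mul_right hdet.symm ((Nat.Prime.coprime_iff_not_dvd hp).2 hdeg)
  obtain ⟨χ, ⟨hχ, hres, hdo⟩, huniq⟩ := Cfsg.Agent.S0867.result N θ θ.2 hinv d hd hcop
  have hχ' := Cfsg.Agent.Lib.Helper11.isIrrCharacter_pow_coprime hχ hk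
  have h1 := huniq _ hχ' (fun n => by
      show χ ((n : G) ^ k) = _
      have := hres (n ^ k)
      rw [Subgroup.coe_pow] at this
      rw [this, hfix]) (by
      have h2 := detOrder_pow_dvd (Helper7.isCharacter_of_irr hχ) (Helper7.isCharacter_of_irr hχ')
      rw [hidx]
      apply Nat.Coprime.pow_left
      exact (Nat.Coprime.coprime_dvd_left h2 (hdo ▸ hdet)).symm)
  exact ⟨⟨χ, hχ⟩, hres, fun g => congrFun h1 g, hdo ▸ hdet⟩

/-- conjugation action on the irreducible characters of a normal subgroup -/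
noncomputable instance irrAction (N : Subgroup G) [hN : N.Normal] :
    MulAction G (IrrCharacter N) where
  smul x θ := ⟨conjFun N (θ : N → ℂ) x⁻¹, isIrrCharacter_conjFun N θ.2 x⁻¹⟩
  one_smul θ := Subtype.ext (by
    show conjFun N (θ : N → ℂ) (1 : G)⁻¹ = θ
    rw [inv_one, conjFun_one])
  mul_smul x y θ := Subtype.ext (by
    show conjFun N (θ : N → ℂ) (x * y)⁻¹ = conjFun N (conjFun N (θ : N → ℂ) y⁻¹) x⁻¹
    rw [conjFun_conjFun, mul_inv_rev])

theorem smul_irr_coe (N : Subgroup G) [hN : N.Normal] (x : G) (θ : IrrCharacter N) :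
    ((x • θ : IrrCharacter N) : N → ℂ) = conjFun N (θ : N → ℂ) x⁻¹ := rfl

theorem Om_regInd_smul (N : Subgroup G) [hN : N.Normal] [Fintype N] (p : ℕ) (x : G)
    (θ : IrrCharacter N) : Om (regInd p N) (x • θ) = Om (regInd p N) θ := by
  unfold Om
  have h1 : ((x • θ : IrrCharacter N) : N → ℂ) 1 = (θ : N → ℂ) 1 := by
    rw [smul_irr_coe, conjFun_apply]
    have : (⟨x⁻¹ * ((1 : N) : G) * x⁻¹⁻¹, hN.conj_mem _ (1 : N).2 x⁻¹⟩ : N) = 1 := by
      apply Subtype.ext
      simp
    rw [this]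
  rw [h1]
  congr 1
  refine Fintype.sum_equiv (MulAut.conjNormal x⁻¹ : N ≃* N).toEquiv _ _ (fun n => ?_)
  have h2 : ((x • θ : IrrCharacter N) : N → ℂ) n
      = (θ : N → ℂ) ((MulAut.conjNormal x⁻¹ : N ≃* N).toEquiv n) := by
    rw [smul_irr_coe, conjFun_apply]
    congr 1
  rw [h2]
  congr 1
  have ho : orderOf ((MulAut.conjNormal x⁻¹ : N ≃* N).toEquiv n) = orderOf n :=
    MulEquiv.orderOf_eq (MulAut.conjNormal x⁻¹ : N ≃* N) n
  by_cases hg : p ∣ orderOf n
  · rw [regInd_of_singular hg, regInd_of_singular (ho ▸ hg)]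
  · rw [regInd_of_regular hg, regInd_of_regular (ho ▸ hg)]

theorem smul_mem_principalBlock [Finite G] {M : Ideal AlgInt} {p : ℕ} (hM : IsPModular p M)
    (N : Subgroup G) [hN : N.Normal] (x : G) {θ : IrrCharacter N}
    (hθ : θ ∈ principalBlock M N) : x • θ ∈ principalBlock M N := by
  haveI : Fintype N := Fintype.ofFinite _
  rw [mem_principalBlock_iff hM, Om_regInd_smul]
  exact (mem_principalBlock_iff hM θ).1 hθ

theorem powIrr_mem_principalBlock [Finite G] {M : Ideal AlgInt} {p : ℕ} (hM : IsPModular p M)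
    {k : ℕ} (hk : Nat.Coprime k (Nat.card G)) {χ : IrrCharacter G}
    (hχ : χ ∈ principalBlock M G) : powIrr hk χ ∈ principalBlock M G := by
  haveI : Fintype G := Fintype.ofFinite _
  rw [mem_principalBlock_iff hM, rt_Om_powIrr]
  exact (mem_principalBlock_iff hM χ).1 hχ

theorem charDegree_smul (N : Subgroup G) [hN : N.Normal] (x : G) (θ : IrrCharacter N) :
    charDegree ((x • θ : IrrCharacter N) : N → ℂ) = charDegree (θ : N → ℂ) := by
  have h1 : ((x • θ : IrrCharacter N) : N → ℂ) 1 = (θ : N → ℂ) 1 := by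
    rw [smul_irr_coe, conjFun_apply]
    have : (⟨x⁻¹ * ((1 : N) : G) * x⁻¹⁻¹, hN.conj_mem _ (1 : N).2 x⁻¹⟩ : N) = 1 := by
      apply Subtype.ext
      simp
    rw [this]
  unfold charDegree
  rw [h1]

theorem charDegree_powIrr [Finite G] {k : ℕ} (hk : Nat.Coprime k (Nat.card G))
    (χ : IrrCharacter G) : charDegree (powIrr hk χ : G → ℂ) = charDegree (χ : G → ℂ) := by
  unfold charDegree
  rw [powIrr_apply, one_pow]

end Cfsg.Agent.Lib.Helper10.SigmaB0
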