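import Mathlib
import Cfsg.Agent.Lib.Helper10.SigmaB0
import Cfsg.Agent.S4550

/-! If all `σ`-fixed odd-degree characters of the principal 2-block are linear then `O^2(G)`
has odd order. -/

set_option autoImplicit false
set_option linter.style.haveILetI false

namespace Cfsg.Agent.Lib.Helper10.SigmaB0

open Cfsg Cfsg.Agent.Lib.Helper7 Cfsg.Agent.Lib.Helper24 Cfsg.Agent.Lib.Helper25
  Cfsg.Agent.Lib.Helper1
open scoped ComplexConjugate

universe u
variable {G : Type u} [Group G]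

theorem coprime_of_sigma [Finite G] {k : ℕ}
    (hk₁ : ∀ g : G, (∃ j : ℕ, orderOf g = 2 ^ j) → g ^ k = g ^ 3)
    (hk₂ : ∀ g : G, Odd (orderOf g) → g ^ k = g) : Nat.Coprime k (Nat.card G) := by
  apply Nat.coprime_of_dvd
  intro q hq hqk hqG
  haveI := Fact.mk hq
  obtain ⟨g, hg⟩ := exists_prime_orderOf_dvd_card' q hqG
  have h1 : g ^ k = 1 := by
    obtain ⟨c, rfl⟩ := hqk
    rw [pow_mul, ← hg, pow_orderOf_eq_one, one_pow]
  have hg1 : g ≠ 1 := by
    intro h
    rw [h, orderOf_one] at hg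
    exact hq.one_lt.ne hg
  rcases hq.eq_two_or_odd' with rfl | hodd
  · have h2 := hk₁ g ⟨1, by rw [hg, pow_one]⟩
    rw [h1] at h2
    have h3 : g ^ 2 = 1 := by rw [← hg]; exact pow_orderOf_eq_one g
    apply hg1
    calc g = g ^ 3 * (g ^ 2)⁻¹ := by group
      _ = 1 := by rw [← h2, h3]; simp
  · have h2 := hk₂ g (hg ▸ hodd)
    rw [h1] at h2
    exact hg1 h2.symm

/-- a linear character of `O^2(G)` with `λ² = 1` is trivial -/
theorem hom_pResidual_eq_one [Finite G] (φ : pResidual 2 G →* ℂˣ)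
    (h : ∀ n, φ n * φ n = 1) (n : pResidual 2 G) : φ n = 1 := by
  have hle : pResidual 2 G ≤ (φ.ker).map (pResidual 2 G).subtype := by
    unfold pResidual
    rw [Subgroup.closure_le]
    intro g hg
    refine ⟨⟨g, Subgroup.subset_closure hg⟩, ?_, rfl⟩
    have hg' : Nat.Coprime (orderOf g) 2 := hg
    set x : pResidual 2 G := ⟨g, Subgroup.subset_closure hg⟩ with hx
    have h1 : φ x ^ orderOf g = 1 := by
      rw [← map_pow]
      have : x ^ orderOf g = 1 := Subtype.ext (by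
        rw [Subgroup.coe_pow]; exact pow_orderOf_eq_one g)
      rw [this, map_one]
    have h2 : φ x ^ 2 = 1 := by rw [pow_two]; exact h x
    have h3 : orderOf (φ x) ∣ Nat.gcd (orderOf g) 2 :=
      Nat.dvd_gcd (orderOf_dvd_of_pow_eq_one h1) (orderOf_dvd_of_pow_eq_one h2)
    rw [hg'.gcd_eq_one, Nat.dvd_one, orderOf_eq_one_iff] at h3
    exact h3
  obtain ⟨y, hy, hyx⟩ := hle n.2
  have : y = n := Subtype.ext hyx
  rw [← this]
  exact hy

theorem odd_card_pResidual [Finite G] {M : Ideal AlgInt} (hM : IsPModular 2 M) (k : ℕ)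
    (hk₁ : ∀ g : G, (∃ j : ℕ, orderOf g = 2 ^ j) → g ^ k = g ^ 3)
    (hk₂ : ∀ g : G, Odd (orderOf g) → g ^ k = g)
    (hyp : ∀ χ ∈ principalBlock M G, Odd (charDegree (χ : G → ℂ)) →
      (∀ g : G, (χ : G → ℂ) (g ^ k) = (χ : G → ℂ) g) → charDegree (χ : G → ℂ) = 1) :
    Odd (Nat.card (pResidual 2 G)) := by
  classical
  by_contra hodd
  rw [Nat.not_odd_iff_even] at hodd
  haveI : Fact (Nat.Prime 2) := ⟨Nat.prime_two⟩
  haveI := hM.2.1.isPrime
  haveI hN : (pResidual 2 G).Normal := inferInstance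
  have hcop := coprime_of_sigma hk₁ hk₂
  have hE := Cfsg.Agent.S4550.result (G := pResidual 2 G) M hM hodd k
    (fun g hg => by
      obtain ⟨j, hj⟩ := hg
      apply Subtype.ext
      rw [Subgroup.coe_pow, Subgroup.coe_pow]
      exact hk₁ g ⟨j, by rw [← hj, Subgroup.orderOf_coe]⟩)
    (fun g hg => by
      apply Subtype.ext
      rw [Subgroup.coe_pow]
      exact hk₂ g (by rwa [Subgroup.orderOf_coe]))
  obtain ⟨P⟩ : Nonempty (Sylow 2 G) := inferInstance
  have hconjpow : ∀ (x : G) (n : pResidual 2 G) (i : ℕ),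
      (⟨x * ((n ^ i : pResidual 2 G) : G) * x⁻¹, hN.conj_mem _ (n ^ i).2 x⟩ : pResidual 2 G)
        = (⟨x * (n : G) * x⁻¹, hN.conj_mem _ n.2 x⟩ : pResidual 2 G) ^ i := by
    intro x n i
    apply Subtype.ext
    show x * ((n ^ i : pResidual 2 G) : G) * x⁻¹ = (x * (n : G) * x⁻¹) ^ i
    rw [conj_pow, Subgroup.coe_pow]
  let Q : IrrCharacter (pResidual 2 G) → Prop := fun θ =>
    θ ∈ principalBlock M (pResidual 2 G) ∧ Odd (charDegree (θ : pResidual 2 G → ℂ)) ∧
      ∀ n : pResidual 2 G, (θ : pResidual 2 G → ℂ) (n ^ k) = (θ : pResidual 2 G → ℂ) n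
  let 𝒮 : SubMulAction (P : Subgroup G) (IrrCharacter (pResidual 2 G)) :=
    { carrier := {θ | Q θ}
      smul_mem' := by
        rintro x θ ⟨h1, h2, h3⟩
        refine ⟨smul_mem_principalBlock hM _ (x : G) h1, ?_, ?_⟩
        · have := charDegree_smul (pResidual 2 G) (x : G) θ
          exact this ▸ h2
        · intro n
          show conjFun (pResidual 2 G) (θ : pResidual 2 G → ℂ) (x : G)⁻¹ (n ^ k)
            = conjFun (pResidual 2 G) (θ : pResidual 2 G → ℂ) (x : G)⁻¹ n
          rw [conjFun_apply, conjFun_apply, hconjpow, h3] }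
  haveI : Finite (IrrCharacter (pResidual 2 G)) := Cfsg.Agent.Lib.Helper2.finite_irrCharacter
  have hmod1 := (P.2).card_modEq_card_fixedPoints (↥𝒮)
  let Q' : IrrCharacter (pResidual 2 G) → Prop := fun θ =>
    Q θ ∧ ∀ x : (P : Subgroup G), (x : G) • θ = θ
  have hc0 : Nat.card {χ : IrrCharacter (pResidual 2 G) //
      χ ∈ principalBlock M (pResidual 2 G) ∧ Odd (charDegree (χ : pResidual 2 G → ℂ)) ∧
      ∀ g : pResidual 2 G, (χ : pResidual 2 G → ℂ) (g ^ k) = (χ : pResidual 2 G → ℂ) g}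
      = Nat.card 𝒮 := Nat.card_congr (Equiv.subtypeEquivRight (fun θ => Iff.rfl))
  have hc1 : Nat.card (MulAction.fixedPoints (P : Subgroup G) 𝒮) = Nat.card {θ // Q' θ} :=
    Nat.card_congr
      { toFun := fun a => ⟨a.1.1, a.1.2, fun x => congrArg Subtype.val (a.2 x)⟩
        invFun := fun b => ⟨⟨b.1, b.2.1⟩, fun x => Subtype.ext (b.2.2 x)⟩
        left_inv := fun a => rfl
        right_inv := fun b => rfl }
  -- all members are linear
  have hreg : ∀ g : G, ¬ 2 ∣ orderOf g → g ∈ pResidual 2 G := by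
    intro g hg
    apply Subgroup.subset_closure
    exact ((Nat.Prime.coprime_iff_not_dvd Nat.prime_two).2 hg).symm
  obtain ⟨j, hj⟩ : ∃ j, (pResidual 2 G).index = 2 ^ j := by
    obtain ⟨n, hn⟩ := IsPGroup.iff_card.mp
      (Cfsg.Agent.Lib.Helper17.pResidual_quotient_isPGroup (G := G) (p := 2))
    exact ⟨n, by rw [Subgroup.index_eq_card]; exact hn⟩
  have hlin : ∀ θ : IrrCharacter (pResidual 2 G), Q' θ → (θ : pResidual 2 G → ℂ) 1 = 1 := by
    rintro θ ⟨⟨h1, h2, h3⟩, h4⟩
    have hinvP : InvUnder (pResidual 2 G) (P : Subgroup G) (θ : pResidual 2 G → ℂ) := by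
      intro s hs g g' hgg
      have h5 := h4 ⟨s⁻¹, inv_mem hs⟩
      have h6 := congrFun (congrArg Subtype.val h5) g
      rw [← h6]
      show (θ : pResidual 2 G → ℂ) g'
        = conjFun (pResidual 2 G) (θ : pResidual 2 G → ℂ) (s⁻¹)⁻¹ g
      rw [conjFun_apply]
      have h7 : g' = ⟨s⁻¹⁻¹ * (g : G) * s⁻¹⁻¹⁻¹, hN.conj_mem _ g.2 _⟩ := by
        apply Subtype.ext
        rw [hgg]
        simp
      rw [h7]
    have hinvG := invariant_of_sup_eq_top (pResidual 2 G) (P : Subgroup G)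
      (Cfsg.Agent.Lib.Helper17.pResidual_sup_sylow P) (isClassFunction_irr θ) hinvP
    obtain ⟨χ, hres, hfix, -⟩ := exists_fixed_extension Nat.prime_two (pResidual 2 G) hj θ hinvG
      (fun h => (Nat.not_even_iff_odd.2 h2) (even_iff_two_dvd.2 h))
      (detOrder_coprime_pResidual Nat.prime_two (Helper7.isCharacter_of_irr θ.2)) hcop h3
    have hχB : χ ∈ principalBlock M G := (rt_mem_iff_of_regular_le hM _ hreg χ θ hres).2 h1
    have h11 : (χ : G → ℂ) 1 = (θ : pResidual 2 G → ℂ) 1 := hres 1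
    have hdeg : charDegree (χ : G → ℂ) = charDegree (θ : pResidual 2 G → ℂ) := by
      unfold charDegree
      rw [h11]
    have h7 := hyp χ hχB (hdeg ▸ h2) hfix
    rw [← h11, ← charDegree_cast (Helper7.isCharacter_of_irr χ.2), h7]
    simp
  -- the inversion
  set m := Nat.card (pResidual 2 G) - 1 with hm
  have hNpos : 0 < Nat.card (pResidual 2 G) := Nat.card_pos
  have hm1 : m + 1 = Nat.card (pResidual 2 G) := by omega
  have hmcop : Nat.Coprime m (Nat.card (pResidual 2 G)) := by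
    rw [← hm1]
    simp
  have hpow : ∀ n : pResidual 2 G, n ^ m = n⁻¹ := by
    intro n
    rw [eq_inv_iff_mul_eq_one, ← pow_succ, hm1, pow_card_eq_one']
  let f : Function.End {θ // Q' θ} := fun θ => ⟨powIrr hmcop θ.1,
    ⟨powIrr_mem_principalBlock hM hmcop θ.2.1.1,
      by rw [charDegree_powIrr]; exact θ.2.1.2.1,
      fun n => by
        rw [powIrr_apply, powIrr_apply, ← pow_mul, mul_comm, pow_mul, θ.2.1.2.2]⟩,
    fun x => by
      apply Subtype.ext
      funext n
      show conjFun (pResidual 2 G) (powIrr hmcop θ.1 : pResidual 2 G → ℂ) (x : G)⁻¹ n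
        = (powIrr hmcop θ.1 : pResidual 2 G → ℂ) n
      rw [conjFun_apply, powIrr_apply, powIrr_apply, ← hconjpow]
      have h5 := congrFun (congrArg Subtype.val (θ.2.2 x)) (n ^ m)
      exact h5⟩
  haveI : Fintype {θ // Q' θ} := Fintype.ofFinite _
  have hf : f ^ 2 ^ 1 = 1 := by
    funext θ
    apply Subtype.ext
    apply Subtype.ext
    funext n
    show (θ.1 : pResidual 2 G → ℂ) ((n ^ m) ^ m) = (θ.1 : pResidual 2 G → ℂ) n
    rw [hpow, hpow, inv_inv]
  have hmod2 := Equiv.Perm.card_fixedPoints_modEq (p := 2) (n := 1) hf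
  have hfix1 : Fintype.card (Function.fixedPoints f) = 1 := by
    rw [Fintype.card_eq_one_iff]
    have hone : Q' (oneIrr (pResidual 2 G)) := by
      refine ⟨⟨oneIrr_mem_principalBlock, ?_, fun n => rfl⟩, fun x => ?_⟩
      · have : charDegree (oneIrr (pResidual 2 G) : pResidual 2 G → ℂ) = 1 :=
          charDegree_eq (d := 1) (by simp [oneIrr])
        rw [this]
        exact odd_one
      · apply Subtype.ext
        rfl
    refine ⟨⟨⟨oneIrr _, hone⟩, ?_⟩, ?_⟩
    · apply Subtype.ext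
      apply Subtype.ext
      rfl
    · rintro ⟨θ, hθ⟩
      apply Subtype.ext
      apply Subtype.ext
      apply Subtype.ext
      obtain ⟨φ, hφ⟩ := exists_hom_of_linear (Helper7.isCharacter_of_irr θ.1.2) (hlin θ.1 θ.2)
      have hθ' : ∀ n, (θ.1 : pResidual 2 G → ℂ) (n ^ m) = (θ.1 : pResidual 2 G → ℂ) n :=
        fun n => congrFun (congrArg Subtype.val (congrArg Subtype.val hθ)) n
      have hsq : ∀ n, φ n * φ n = 1 := by
        intro n
        have h8 := hθ' n
        rw [hpow, hφ, hφ] at h8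
        have h9 : φ n⁻¹ = φ n := Units.ext h8
        rw [map_inv] at h9
        calc φ n * φ n = φ n * (φ n)⁻¹ := by rw [h9]
          _ = 1 := mul_inv_cancel _
      funext n
      rw [hφ, hom_pResidual_eq_one φ hsq n]
      simp [oneIrr]
  rw [hfix1, ← Nat.card_eq_fintype_card] at hmod2
  rw [hc0] at hE
  rw [hc1] at hmod1
  have h10 := hmod1.trans hmod2
  rw [Nat.even_iff] at hE
  unfold Nat.ModEq at h10
  omega

end Cfsg.Agent.Lib.Helper10.SigmaB0
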